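import Groth.Agent.Lib.FormalFun.HomComplete
import Groth.Agent.Lib.Ref1.Frame
import Groth.Agent.Lib.CurveMult.GGCurve
import Groth.Agent.Lib.CurveRR.Dual
import Groth.Agent.Lib.Ample.Generation
import Groth.Agent.Lib.OX.FlatLocFree
import Groth.Agent.Lib.Euler.Coh
import Groth.Agent.Lib.HomSh.QCoh
import Groth.Agent.Lib.QCoh.DevissageSummands

/-!
# Sections of vector bundles on quasi-affine schemes and of their completions
-/

set_option autoImplicit false

universe u

open CategoryTheory CategoryTheory.Limits AlgebraicGeometry Opposite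

namespace GrothLib.QASec7

open GrothLib.QCoh (stalkLin stalkLin_germ stalkLin_comp)
open GrothLib.Cohom (hhMap)
open GrothLib.FormalFun (Bij Fil mem_fil_iff)
open GrothLib.FormalSys

variable {X : Scheme.{u}}

/-- A family of functions spanning the dual stalks gives stalkwise retractions. -/
theorem exists_split_to_free [IsNoetherian X] [X.IsQuasiAffine] {E : X.Modules} (hE : FlatMod.IsFinLocFree E) :
    ∃ (n : ℕ) (ι : E ⟶ FlatMod.freeMod X n), ∀ y : X,
      ∃ r : (FlatMod.freeMod X n).presheaf.stalk y →ₗ[X.presheaf.stalk y] E.presheaf.stalk y,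
        ∀ e, r (stalkLin ι y e) = e := by
  classical
  have hEc := Euler.isCoh_of_isFinLocFree hE
  have hrel := HomSh.hasRel_of_isCoh hEc
  have hH := HomSh.isCoh_homSh hrel (HomSh.isCoh_structureModule X)
  haveI := hH.1
  obtain ⟨κ, s, hs⟩ := CurveMult.spanned_of_isGloballyGenerated
    (Ample.isGloballyGenerated_of_isQuasiAffine (RefHull.homSh E (Coh.structureModule X)))
  obtain ⟨n, t, ht⟩ := Ample.exists_finite_spanned _
    (fun _ => ⟨⊤, trivial, fun W hW _ => FormalExist7.moduleFinite_sections_of_isCoh hH hW⟩) s hs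
  choose ψ hψ using fun i => FormalFun.exists_hom_of_section (s (t i))
  let ιF : Fin n → (Coh.structureModule X ⟶ FlatMod.freeMod X n) := fun i =>
    Sigma.ι (fun _ : Fin n => Coh.structureModule X) i
  let pr : Fin n → (FlatMod.freeMod X n ⟶ Coh.structureModule X) := fun i =>
    Sigma.desc fun j => if i = j then 𝟙 _ else 0
  let ι : E ⟶ FlatMod.freeMod X n := ∑ j, ψ j ≫ ιF j
  have hι : ∀ i, ι ≫ pr i = ψ i := fun i => by
    simp only [ι, ιF, pr, Preadditive.sum_comp, Category.assoc, Sigma.ι_desc]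
    rw [Finset.sum_eq_single i (fun j _ hj => by rw [if_neg hj.symm, comp_zero]) (by simp), if_pos rfl,
      Category.comp_id]
  refine ⟨n, ι, fun y => ?_⟩
  haveI := (Ref1.isFinLocFree_iff_free hrel).1 hE y
  haveI := QCoh.stalk_finite E hEc y
  let b := Module.Free.chooseBasis (X.presheaf.stalk y) (E.presheaf.stalk y)
  have hspan : ∀ δ, δ ∈ Submodule.span (X.presheaf.stalk y) (Set.range fun i =>
      (RefHull.homSh E (Coh.structureModule X)).presheaf.germ ⊤ y trivial (s (t i))) := by
    intro δ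
    obtain ⟨O, hy, m, rfl⟩ := TopCat.Presheaf.exists_germ_eq (RefHull.homSh E (Coh.structureModule X)).presheaf δ
    obtain ⟨W, hW, hyW, hm⟩ := ht O m y hy
    rw [← TopCat.Presheaf.germ_res_apply _ (homOfLE hW) y hyW m]
    refine Submodule.span_induction (p := fun z _ =>
      (RefHull.homSh E (Coh.structureModule X)).presheaf.germ W y hyW z ∈ Submodule.span _ _) ?_ ?_ ?_ ?_ hm
    · rintro _ ⟨i, rfl⟩
      exact Submodule.subset_span ⟨i, (TopCat.Presheaf.germ_res_apply _ (homOfLE le_top) y hyW _).symm⟩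
    · rw [map_zero]; exact zero_mem _
    · intro a a' _ _ ha ha'; rw [map_add]; exact add_mem ha ha'
    · intro a z _ hz; rw [Mero.germ_smul]; exact Submodule.smul_mem _ _ hz
  choose δ hδ using fun j => (hrel.evalStalk_bijective (Coh.structureModule X) y).2
    ((HomSh.unitStalk y).toLinearMap.comp (b.coord j))
  choose c hc using fun j => Submodule.mem_span_range_iff_exists_fun (X.presheaf.stalk y) |>.1 (hspan (δ j))
  let f : Module.Free.ChooseBasisIndex (X.presheaf.stalk y) (E.presheaf.stalk y) →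
      ((FlatMod.freeMod X n).presheaf.stalk y →ₗ[X.presheaf.stalk y] X.presheaf.stalk y) := fun j =>
    (HomSh.unitStalk y).symm.toLinearMap.comp (∑ i, c j i • stalkLin (pr i) y)
  refine ⟨∑ j, (f j).smulRight (b j), fun e => ?_⟩
  rw [LinearMap.sum_apply]
  conv_rhs => rw [← b.sum_repr e]
  refine Finset.sum_congr rfl fun j _ => ?_
  rw [LinearMap.smulRight_apply]
  congr 1
  have h1 := congr($(hδ j) e)
  rw [← hc j, map_sum, LinearMap.sum_apply] at h1
  simp only [f, LinearMap.comp_apply, LinearMap.sum_apply, LinearMap.smul_apply, LinearEquiv.coe_coe]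
  rw [LinearEquiv.symm_apply_eq]
  simp only [LinearMap.comp_apply, LinearEquiv.coe_coe, Module.Basis.coord_apply] at h1
  rw [← h1]
  refine Finset.sum_congr rfl fun i _ => ?_
  rw [map_smul, LinearMap.smul_apply, ← stalkLin_comp, hι, hψ]
  exact congrArg (c j i • ·) (LinearMap.congr_fun (FormalFun.evalStalk_germ (s (t i)) y trivial).symm e)

theorem mono_of_split {E F : X.Modules} (ι : E ⟶ F)
    (h : ∀ y : X, ∃ r : F.presheaf.stalk y →ₗ[X.presheaf.stalk y] E.presheaf.stalk y,
      ∀ e, r (stalkLin ι y e) = e) : Mono ι :=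
  (GrothLib.OX.mono_iff ι).2 fun y => (ModuleCat.mono_iff_injective _).2
    (Function.LeftInverse.injective (h y).choose_spec)

theorem free_cokernel_of_split [IsNoetherian X] {E F : X.Modules} (hE : Coh.IsCoh E) (hF : FlatMod.IsFinLocFree F)
    (ι : E ⟶ F) (h : ∀ y : X, ∃ r : F.presheaf.stalk y →ₗ[X.presheaf.stalk y] E.presheaf.stalk y,
      ∀ e, r (stalkLin ι y e) = e) : FlatMod.IsFinLocFree (cokernel ι) := by
  have hFc := Euler.isCoh_of_isFinLocFree hF
  have hQ := QCoh.isCoh_cokernel ι hE hFc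
  refine (Ref1.isFinLocFree_iff_free (HomSh.hasRel_of_isCoh hQ)).2 fun y => ?_
  haveI := (Ref1.isFinLocFree_iff_free (HomSh.hasRel_of_isCoh hFc)).1 hF y
  haveI := QCoh.stalk_finite F hFc y
  haveI := QCoh.stalk_finite (cokernel ι) hQ y
  obtain ⟨r, hr⟩ := h y
  have hS : (ShortComplex.mk ι (cokernel.π ι) (cokernel.condition ι)).Exact :=
    ShortComplex.exact_of_g_is_cokernel _ (cokernelIsCokernel ι)
  have hmap := hS.map (GrothLib.OX.stalk y)
  rw [ShortComplex.ShortExact.moduleCat_exact_iff_function_exact] at hmap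
  let p := stalkLin (cokernel.π ι) y
  have hp : Function.Surjective p :=
    (ModuleCat.epi_iff_surjective ((GrothLib.OX.stalk y).map (cokernel.π ι))).1 inferInstance
  obtain ⟨s, hs⟩ : ∃ s : (cokernel ι).presheaf.stalk y →ₗ[X.presheaf.stalk y] F.presheaf.stalk y,
      p.comp s = LinearMap.id := by
    have hsplit : Function.Injective (stalkLin ι y) := Function.LeftInverse.injective hr
    have hex : Function.Exact (stalkLin ι y) p := hmap
    have h2 : ∃ l : F.presheaf.stalk y →ₗ[X.presheaf.stalk y] E.presheaf.stalk y,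
        l.comp (stalkLin ι y) = LinearMap.id := ⟨r, LinearMap.ext hr⟩
    exact ((Function.Exact.split_tfae hex hsplit hp).out 1 0).1 h2
  haveI := Module.Projective.of_split s p hs
  haveI : Module.FinitePresentation (X.presheaf.stalk y) ((cokernel ι).presheaf.stalk y) :=
    Module.finitePresentation_of_projective _ _
  exact Module.free_of_flat_of_isLocalRing

variable {A : Type u} [CommRing A] [X.Over (Spec (CommRingCat.of A))] (I : Ideal A)

theorem exists_modPow_map {M N : X.Modules} (φ : M ⟶ N) (k : ℕ) :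
    ∃ φk : Formal.modPow I k M ⟶ Formal.modPow I k N,
      Formal.modPowπ I k M ≫ φk = φ ≫ Formal.modPowπ I k N :=
  (IsQuot.modPowπ I k M).exists_desc (φ ≫ Formal.modPowπ I k N) fun a ha => by
    rw [← Category.assoc, smulMod_naturality, Category.assoc,
      (IsQuot.modPowπ I k N).comp_eq_zero a ha, comp_zero]

theorem eq_zero_of_map_eq_zero_of_split {E F : X.Modules} (ι : E ⟶ F)
    (h : ∀ y : X, ∃ r : F.presheaf.stalk y →ₗ[X.presheaf.stalk y] E.presheaf.stalk y,
      ∀ e, r (stalkLin ι y e) = e) (k : ℕ) (ιk : Formal.modPow I k E ⟶ Formal.modPow I k F)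
    (hk : Formal.modPowπ I k E ≫ ιk = ι ≫ Formal.modPowπ I k F) (d : Coh.HH X (Formal.modPow I k E) 0)
    (hd : hhMap A ιk 0 d = 0) : d = 0 := by
  apply (ProjCoh.H0top _).injective
  rw [map_zero]
  refine FormalFun.section_ext_germ _ fun y _ => ?_
  rw [map_zero]
  have hd' : ιk.app ⊤ (ProjCoh.H0top _ d) = 0 := by
    refine (ProjCoh.H0top_map ((QCoh.toAbFun X).map ιk) d).symm.trans ?_
    rw [← Cohom.hhMap_apply (A := A), hd, map_zero]
  haveI : Epi (Formal.modPowπ I k E) := FormalFun.epi_modPowπ I k E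
  obtain ⟨e, he⟩ : ∃ e : E.presheaf.stalk y, stalkLin (Formal.modPowπ I k E) y e =
      (Formal.modPow I k E).presheaf.germ ⊤ y trivial (ProjCoh.H0top _ d) :=
    (ModuleCat.epi_iff_surjective ((GrothLib.OX.stalk y).map (Formal.modPowπ I k E))).1 inferInstance _
  rw [← he, ← mem_fil_iff]
  obtain ⟨r, hr⟩ := h y
  rw [← hr e]
  have h1 : stalkLin ι y e ∈ Fil I k F y := by
    rw [mem_fil_iff, ← stalkLin_comp, ← hk, stalkLin_comp,
      he]
    exact (stalkLin_germ ιk (U := ⊤) trivial _).trans ((congrArg _ hd').trans (map_zero _))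
  have := Submodule.mem_map_of_mem (f := r) h1
  rw [Submodule.map_smul''] at this
  exact Submodule.smul_mono le_rfl le_top this

theorem bij_freeMod (h : Bij I (Coh.structureModule X) 0) (n : ℕ) : Bij I (FlatMod.freeMod X n) 0 := by
  classical
  let ιF : Fin n → (Coh.structureModule X ⟶ FlatMod.freeMod X n) := fun i =>
    Sigma.ι (fun _ : Fin n => Coh.structureModule X) i
  let pr : Fin n → (FlatMod.freeMod X n ⟶ Coh.structureModule X) := fun i =>
    Sigma.desc fun j => if i = j then 𝟙 _ else 0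
  have htot : ∑ i, pr i ≫ ιF i = 𝟙 (FlatMod.freeMod X n) := Sigma.hom_ext _ _ fun j => by
    simp only [pr, ιF, Preadditive.comp_sum, Sigma.ι_desc_assoc, Category.comp_id]
    rw [Finset.sum_eq_single j (fun i _ hi => by rw [if_neg hi, zero_comp]) (by simp), if_pos rfl, Category.id_comp]
  choose prk hprk using fun (i : Fin n) (k : ℕ) => exists_modPow_map I (pr i) k
  choose ιk hιk using fun (i : Fin n) (k : ℕ) => exists_modPow_map I (ιF i) k
  have htotk : ∀ k, ∑ i, prk i k ≫ ιk i k = 𝟙 (Formal.modPow I k (FlatMod.freeMod X n)) := fun k => by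
    haveI := FormalFun.epi_modPowπ I k (FlatMod.freeMod X n)
    rw [← cancel_epi (Formal.modPowπ I k (FlatMod.freeMod X n)), Preadditive.comp_sum, Category.comp_id]
    simp only [← Category.assoc, hprk]
    simp only [Category.assoc, hιk]
    simp only [← Category.assoc]
    rw [← Preadditive.sum_comp, htot, Category.id_comp]
  constructor
  · intro x hx
    rw [← FormalFun.hhMap_id (A := A) 0 x, ← htot, CurveRR.hhMap_sum]
    refine Finset.sum_eq_zero fun i _ => ?_
    rw [← FormalFun.hhMap_comp, h.1 (hhMap A (pr i) 0 x) fun k => by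
      rw [FormalFun.hhMap_comp, ← hprk, ← FormalFun.hhMap_comp, hx k, map_zero], map_zero]
  · intro z hz
    choose a ha using fun i => h.2 (fun k => hhMap A (prk i (k + 1)) 0 (z k)) fun k => by
      rw [← hz k, FormalFun.hhMap_comp, FormalFun.hhMap_comp]
      congr 2
      haveI := FormalFun.epi_modPowπ I (k + 1 + 1) (FlatMod.freeMod X n)
      rw [← cancel_epi (Formal.modPowπ I (k + 1 + 1) (FlatMod.freeMod X n)), ← Category.assoc, hprk,
        ← Category.assoc, Formal.modPowπ_trans, hprk, Category.assoc, Formal.modPowπ_trans]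
    refine ⟨∑ i, hhMap A (ιF i) 0 (a i), fun k => ?_⟩
    rw [map_sum]
    conv_rhs => rw [← FormalFun.hhMap_id (A := A) 0 (z k), ← htotk, CurveRR.hhMap_sum]
    refine Finset.sum_congr rfl fun i _ => ?_
    rw [FormalFun.hhMap_comp, ← hιk, ← FormalFun.hhMap_comp, ha i k, FormalFun.hhMap_comp]

theorem bij_of_isFinLocFree [IsNoetherian X] [X.IsQuasiAffine] (h : Bij I (Coh.structureModule X) 0)
    {E : X.Modules} (hE : FlatMod.IsFinLocFree E) : Bij I E 0 := by
  have inj : ∀ {E : X.Modules}, FlatMod.IsFinLocFree E → ∀ x : Coh.HH X E 0,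
      (∀ k, hhMap A (Formal.modPowπ I (k + 1) E) 0 x = 0) → x = 0 := by
    intro E hE x hx
    obtain ⟨n, ι, hι⟩ := exists_split_to_free hE
    haveI := mono_of_split ι hι
    have h0 : hhMap A ι 0 x = 0 := (bij_freeMod I h n).1 _ fun k => by
      obtain ⟨ιk, hιk⟩ := exists_modPow_map I ι (k + 1)
      rw [FormalFun.hhMap_comp, ← hιk, ← FormalFun.hhMap_comp, hx k, map_zero]
    apply (ProjCoh.H0top _).injective
    rw [map_zero]
    refine FormalFun.section_ext_germ _ fun y _ => ?_
    rw [map_zero]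
    obtain ⟨r, hr⟩ := hι y
    apply Function.LeftInverse.injective hr
    rw [map_zero, stalkLin_germ,
      show ι.app ⊤ (ProjCoh.H0top _ x) = 0 from (ProjCoh.H0top_map ((QCoh.toAbFun X).map ι) x).symm.trans
        (by rw [← Cohom.hhMap_apply (A := A), h0, map_zero]), map_zero]
  refine ⟨inj hE, fun z hz => ?_⟩
  obtain ⟨n, ι, hι⟩ := exists_split_to_free hE
  haveI := mono_of_split ι hι
  have hQ := free_cokernel_of_split (Euler.isCoh_of_isFinLocFree hE) (OX.isFinLocFree_freeMod X n) ι hι
  choose ιk hιk using fun k => exists_modPow_map I ι k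
  choose πk hπk using fun k => exists_modPow_map I (cokernel.π ι) k
  obtain ⟨a, ha⟩ := (bij_freeMod I h n).2 (fun k => hhMap A (ιk (k + 1)) 0 (z k)) fun k => by
    rw [← hz k, FormalFun.hhMap_comp, FormalFun.hhMap_comp]
    congr 2
    haveI := FormalFun.epi_modPowπ I (k + 1 + 1) E
    rw [← cancel_epi (Formal.modPowπ I (k + 1 + 1) E), ← Category.assoc, hιk, ← Category.assoc,
      Formal.modPowπ_trans, hιk, Category.assoc, Formal.modPowπ_trans]
  have hzero : hhMap A (cokernel.π ι) 0 a = 0 := inj hQ _ fun k => by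
    rw [FormalFun.hhMap_comp, ← hπk, ← FormalFun.hhMap_comp, ha k, FormalFun.hhMap_comp]
    haveI := FormalFun.epi_modPowπ I (k + 1) E
    rw [show ιk (k + 1) ≫ πk (k + 1) = 0 by
      rw [← cancel_epi (Formal.modPowπ I (k + 1) E), ← Category.assoc, hιk, Category.assoc, hπk,
        cokernel.condition_assoc, zero_comp, comp_zero]]
    exact FormalFun.hhMap_zero 0 _
  have hS : (ShortComplex.mk ι (cokernel.π ι) (cokernel.condition ι)).ShortExact :=
    { exact := ShortComplex.exact_of_g_is_cokernel _ (cokernelIsCokernel ι) }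
  obtain ⟨x, hx⟩ := (Cohom.exact₂ (A := A) hS 0 a).1 hzero
  refine ⟨x, fun k => sub_eq_zero.1 (eq_zero_of_map_eq_zero_of_split I ι hι (k + 1) (ιk (k + 1)) (hιk _) _ ?_)⟩
  rw [map_sub, FormalFun.hhMap_comp, hιk, ← FormalFun.hhMap_comp, sub_eq_zero]
  exact (congrArg _ hx).trans (ha k)

end GrothLib.QASec7
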